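import Groth.Agent.S4887
import Groth.Agent.S6284
import Groth.Agent.RGLib.FPModuleModel
import Groth.Agent.RGLib.Lim8Zero
import Groth.Agent.RGLib.GenericQuotMain
import Groth.Agent.QCoh.AnnIdeal
import Groth.Agent.GrFlat5.FlatPullback
import Groth.Agent.AssCycles.Basic
import Groth.Agent.ZClosLib.FlatPullback
import Mathlib.RingTheory.Flat.Equalizer
import Mathlib.AlgebraicGeometry.Morphisms.FinitePresentation

/-!
The locus where a morphism of finitely presented modules with flat target becomes an isomorphism.
-/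

set_option autoImplicit false
set_option linter.style.haveILetI false
set_option backward.isDefEq.respectTransparency false
set_option backward.isDefEq.respectTransparency.types false

universe u

open CategoryTheory CategoryTheory.Limits AlgebraicGeometry TopologicalSpace Opposite TensorProduct

namespace Groth.Agent.IsoLocus

open Groth.Agent

/-- The complement of the support of a finitely presented module is quasi-compact. -/
theorem isCompact_support_compl (B : Type u) [CommRing B] (M : Type u) [AddCommGroup M] [Module B M]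
    [Module.FinitePresentation B M] : IsCompact (Module.support B M)ᶜ := by
  obtain ⟨C, _, _, _, _, B₀, _, _, _, _, M₀, _, _, hC, hB₀, -, hM₀, ⟨ε⟩⟩ :=
    RGLib.exists_fp_module_model B B M
  haveI := hC; haveI := hB₀; haveI := hM₀
  haveI : IsNoetherianRing C := Algebra.FiniteType.isNoetherianRing ℤ C
  haveI : IsNoetherianRing B₀ := Algebra.FiniteType.isNoetherianRing C B₀
  rw [← ε.support_eq, S6284.result M₀, ← Set.preimage_compl]
  exact QuasiCompact.isCompact_preimage (f := Spec.map (CommRingCat.ofHom (algebraMap B₀ B))) _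
    Module.isClosed_support.isOpen_compl (NoetherianSpace.isCompact _)

/-- A compact open minus the support of a finitely presented module is quasi-compact. -/
theorem isCompact_sdiff_support {X : Scheme.{u}} {M : X.Modules} (hM : Coh.IsQCoh M) (hfp : CohB1.IsFP M)
    {O : Set X} (hOo : IsOpen O) (hO : IsCompact O) : IsCompact (O \ CohB1.support M) := by
  have hbasis : Opens.IsBasis (Set.range fun U : X.affineOpens => U.1) := by
    rw [Subtype.range_coe]
    exact X.isBasis_affineOpens
  obtain ⟨T, hT, heq⟩ := (hbasis.isCompact_open_iff_eq_finite_iUnion (fun U : X.affineOpens => U.1)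
    (fun U => U.2.isCompact) O).1 ⟨hO, hOo⟩
  rw [heq]
  simp only [Set.iUnion_diff]
  refine hT.isCompact_biUnion fun W hW => ?_
  obtain ⟨W, hWaff⟩ := W
  haveI := QCoh.finitePresentation_of_isFP hfp hWaff
  have hmem : ∀ p, hWaff.fromSpec p ∈ W := fun p => by
    have : hWaff.fromSpec p ∈ Set.range hWaff.fromSpec := ⟨p, rfl⟩
    rwa [hWaff.range_fromSpec] at this
  have hinv : ∀ p, hWaff.primeIdealOf ⟨hWaff.fromSpec p, hmem p⟩ = p := fun p =>
    hWaff.fromSpec.isOpenEmbedding.injective (hWaff.fromSpec_primeIdealOf ⟨_, hmem p⟩)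
  have heq : (W : Set X) \ CohB1.support M = hWaff.fromSpec '' (Module.support Γ(X, W) Γ(M, W))ᶜ := by
    ext x
    constructor
    · rintro ⟨hx, hxs⟩
      exact ⟨hWaff.primeIdealOf ⟨x, hx⟩, fun h => hxs ((QCoh.mem_moduleSupport_iff hM hWaff hx).1 h),
        hWaff.fromSpec_primeIdealOf ⟨x, hx⟩⟩
    · rintro ⟨p, hp, rfl⟩
      refine ⟨hmem p, fun h => hp ?_⟩
      have := (QCoh.mem_moduleSupport_iff hM hWaff (hmem p)).2 h
      rwa [hinv] at this
  show IsCompact ((W : Set X) \ CohB1.support M)
  rw [heq]
  exact (isCompact_support_compl Γ(X, W) Γ(M, W)).image hWaff.fromSpec.continuous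

/-- A constructible subset of a quasi-compact quasi-separated scheme is quasi-compact. -/
theorem isCompact_of_isConstructible {X : Scheme.{u}} [CompactSpace X] [QuasiSeparatedSpace X] {s : Set X}
    (hs : Topology.IsConstructible s) : IsCompact s := by
  have : Nonempty X.affineOpens := ⟨⟨⊥, isAffineOpen_bot X⟩⟩
  have hb : TopologicalSpace.IsTopologicalBasis
      (Set.range fun A : X.affineOpens => ((A.1 : X.Opens) : Set X)) := by
    have h := X.isBasis_affineOpens
    rw [TopologicalSpace.Opens.IsBasis] at h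
    convert h using 1
    ext t
    simp
  refine Topology.IsConstructible.induction_of_isTopologicalBasis (P := fun s _ => IsCompact s) _ hb
    (fun A => A.2.isCompact) (fun A t ht => ?_) (fun s _ t _ hs ht => hs.union ht) s hs
  exact A.2.isCompact.diff (isOpen_biUnion fun B _ => B.1.2)

variable {X S X' T : Scheme.{u}} {f : X ⟶ S} {f' : X' ⟶ T} {q : X' ⟶ X} {t : T ⟶ S}

/-- The kernel of an epimorphism onto a flat module commutes with base change. -/
theorem mono_pullback_kernel_ι (hc : IsPullback q f' f t) {F G : X.Modules} (hF : Coh.IsQCoh F)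
    (hG : Coh.IsQCoh G) (hfl : FlatMod.IsFlatOver f G) (u : F ⟶ G) [Epi u] :
    Mono ((Scheme.Modules.pullback q).map (kernel.ι u)) := by
  have hK : Coh.IsQCoh (kernel u) := QCoh.isQCoh_kernel hF hG u
  choose V hV hxV hle₁ using fun x' : X' =>
    exists_isAffineOpen_mem_and_subset (x := f (q x')) (U := (⊤ : S.Opens)) trivial
  choose U hU hxU hUV using fun x' : X' =>
    exists_isAffineOpen_mem_and_subset (x := q x') (U := f ⁻¹ᵁ V x') (hxV x')
  choose O hO hxO hOV using fun x' : X' =>
    exists_isAffineOpen_mem_and_subset (x := f' x') (U := t ⁻¹ᵁ V x')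
      (show t (f' x') ∈ V x' by rw [← Scheme.Hom.comp_apply, ← hc.w, Scheme.Hom.comp_apply]; exact hxV x')
  let W : X' → X'.Opens := fun x' => q ⁻¹ᵁ U x' ⊓ f' ⁻¹ᵁ O x'
  have hW : ∀ x', IsAffineOpen (W x') := fun x' => by
    haveI : IsAffine _ := hV x'
    haveI : IsAffine _ := hO x'
    haveI : IsAffine _ := hU x'
    exact .of_isIso (Scheme.Hom.isPullback_resLE hc (hOV x') (hUV x') (UY := W x') rfl).isoPullback.hom
  refine RGLib.GenericQuot.mono_of_app_injective (QCoh.isQCoh_pullback q hK) (QCoh.isQCoh_pullback q hF) _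
    W hW (fun x' => ⟨x', hxU x', hxO x'⟩) fun x' => ?_
  let A := Γ(S, V x')
  let A' := Γ(T, O x')
  let B := Γ(X, U x')
  let B' := Γ(X', W x')
  have hpo := (isIso_pushoutSection_iff hc (hOV x') (hUV x') (UY := W x') rfl).mp
    (isIso_pushoutSection_of_isAffineOpen hc (hOV x') (hUV x') rfl (hV x') (hO x') (hU x'))
  let aU : A ⟶ B := f.appLE (V x') (U x') (hUV x')
  letI : Algebra A B := aU.hom.toAlgebra
  letI : Algebra A A' := (t.appLE (V x') (O x') (hOV x')).hom.toAlgebra
  letI : Algebra B B' := (q.appLE (U x') (W x') inf_le_left).hom.toAlgebra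
  letI : Algebra A' B' := (f'.appLE (O x') (W x') inf_le_right).hom.toAlgebra
  letI : Algebra A B' := (aU ≫ q.appLE (U x') (W x') inf_le_left).hom.toAlgebra
  haveI : IsScalarTower A B B' := .of_algebraMap_eq fun _ => rfl
  haveI : IsScalarTower A A' B' := .of_algebraMap_eq fun r => congr($(hpo.w).hom r)
  haveI : Algebra.IsPushout A A' B B' := CommRingCat.isPushout_iff_isPushout.mp hpo.flip
  letI : Module A Γ(kernel u, U x') := Module.compHom _ aU.hom
  haveI : IsScalarTower A B Γ(kernel u, U x') := .of_algebraMap_smul fun _ _ => rfl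
  letI : Module A Γ(F, U x') := Module.compHom _ aU.hom
  haveI : IsScalarTower A B Γ(F, U x') := .of_algebraMap_smul fun _ _ => rfl
  letI : Module A Γ(G, U x') := Module.compHom _ aU.hom
  haveI : IsScalarTower A B Γ(G, U x') := .of_algebraMap_smul fun _ _ => rfl
  haveI : Module.Flat A Γ(G, U x') :=
    (QCoh.flat_appLE_iff f hG (hU x') (hV x') (hUV x')).2 fun x _ => hfl x
  let j := QCoh.appLin (kernel.ι u) (U x')
  let p := QCoh.appLin u (U x')
  have hj : Function.Injective j := QCoh.app_injective _ _
  have hp : Function.Surjective p := QCoh.app_surjective_of_epi hF hG u (hU x')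
  have hex : Function.Exact j p := fun y =>
    ⟨fun hy => QCoh.exists_kernel_lift u (U x') y hy, by
      rintro ⟨w, rfl⟩; exact congr(($(kernel.condition u)).app (U x') w)⟩
  have hinj : Function.Injective ((j.restrictScalars A).lTensor A') :=
    LinearMap.lTensor_injective_of_exact_of_flat (p.restrictScalars A) hp (j.restrictScalars A) hj hex A'
  let NK := (Scheme.Modules.pullback q).obj (kernel u)
  let NF := (Scheme.Modules.pullback q).obj F
  letI : Module B Γ(NK, W x') := Module.compHom _ (q.appLE (U x') (W x') inf_le_left).hom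
  haveI : IsScalarTower B B' Γ(NK, W x') := .of_algebraMap_smul fun _ _ => rfl
  letI : Module B Γ(NF, W x') := Module.compHom _ (q.appLE (U x') (W x') inf_le_left).hom
  haveI : IsScalarTower B B' Γ(NF, W x') := .of_algebraMap_smul fun _ _ => rfl
  let lK : Γ(kernel u, U x') →ₗ[B] Γ(NK, W x') :=
    { toFun := QCoh.pullSec q (kernel u) inf_le_left
      map_add' := QCoh.pullSec_add q (kernel u) inf_le_left
      map_smul' := fun r m => QCoh.pullSec_smul q (kernel u) inf_le_left r m }
  let lF : Γ(F, U x') →ₗ[B] Γ(NF, W x') :=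
    { toFun := QCoh.pullSec q F inf_le_left
      map_add' := QCoh.pullSec_add q F inf_le_left
      map_smul' := fun r m => QCoh.pullSec_smul q F inf_le_left r m }
  have hbK : IsBaseChange B' lK :=
    QCoh.isBaseChange_pullback (hU x') q (hW x') hK inf_le_left (fun _ => rfl) lK fun _ => rfl
  have hbF : IsBaseChange B' lF :=
    QCoh.isBaseChange_pullback (hU x') q (hW x') hF inf_le_left (fun _ => rfl) lF fun _ => rfl
  let cK := Algebra.IsPushout.cancelBaseChange A A' B B' Γ(kernel u, U x')
  let cF := Algebra.IsPushout.cancelBaseChange A A' B B' Γ(F, U x')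
  have hsq : ∀ z : A' ⊗[A] Γ(kernel u, U x'),
      ((Scheme.Modules.pullback q).map (kernel.ι u)).app (W x') (hbK.equiv (cK.symm z)) =
        hbF.equiv (cF.symm ((j.restrictScalars A).lTensor A' z)) := by
    intro z
    induction z using TensorProduct.induction_on with
    | zero => simp
    | add a b ha hb => simp only [map_add, ha, hb]
    | tmul a m =>
      rw [LinearMap.lTensor_tmul, Algebra.IsPushout.cancelBaseChange_symm_tmul,
        Algebra.IsPushout.cancelBaseChange_symm_tmul, IsBaseChange.equiv_tmul, IsBaseChange.equiv_tmul,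
        Scheme.Modules.Hom.app_smul]
      exact congrArg _ (ZClosLib.pullSec_natural q (kernel.ι u) inf_le_left m)
  intro a b hab
  obtain ⟨a, rfl⟩ := hbK.equiv.surjective a
  obtain ⟨b, rfl⟩ := hbK.equiv.surjective b
  obtain ⟨a, rfl⟩ := cK.symm.surjective a
  obtain ⟨b, rfl⟩ := cK.symm.surjective b
  rw [hsq, hsq] at hab
  rw [hinj (cF.symm.injective (hbF.equiv.injective hab))]

theorem isZero_of_support_eq_empty {M : X.Modules} (hM : Coh.IsQCoh M) (h : CohB1.support M = ∅) : IsZero M := by
  refine QCoh.isZero_of_cover hM (fun U : X.affineOpens => U.1) (fun U => U.2) (fun x => ?_) fun U => ?_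
  · obtain ⟨U, hU, hx, -⟩ := exists_isAffineOpen_mem_and_subset (x := x) (U := (⊤ : X.Opens)) trivial
    exact ⟨⟨U, hU⟩, hx⟩
  · rw [← Module.support_eq_empty_iff (R := Γ(X, U.1))]
    refine Set.eq_empty_of_forall_notMem fun p hp => ?_
    have hmem : U.2.fromSpec p ∈ U.1 := by
      have : U.2.fromSpec p ∈ Set.range U.2.fromSpec := ⟨p, rfl⟩
      rwa [U.2.range_fromSpec] at this
    have hinv : U.2.primeIdealOf ⟨U.2.fromSpec p, hmem⟩ = p :=
      U.2.fromSpec.isOpenEmbedding.injective (U.2.fromSpec_primeIdealOf ⟨_, hmem⟩)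
    rw [← hinv, QCoh.mem_moduleSupport_iff hM U.2 hmem, h] at hp
    exact hp

end Groth.Agent.IsoLocus
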